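import Cfsg.Agent.UThreeInvol.Basic

/-!
# Counting involutions of `SU₃(q)`, `q` odd
-/

set_option autoImplicit false

namespace CfsgLib.UThreeInvol

open Matrix

variable {F : Type*} [Field F] [Fintype F] {q : ℕ}

omit [Fintype F] in
/-- Splitting a finite subtype along a predicate. -/
theorem card_split {α : Type*} [Finite α] (p r : α → Prop) :
    Nat.card {x // p x} = Nat.card {x // p x ∧ r x} + Nat.card {x // p x ∧ ¬ r x} :=
  (Set.ncard_inter_add_ncard_diff_eq_ncard {x | p x} {x | r x} (Set.toFinite _)).symm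

namespace Setup

variable (S : Setup F q)

include S in
/-- The centralizer of an element is the fibre of its class map. -/
theorem card_centralizer_mul {t : ↥(Cfsg.SU 3 F q)} (ht : t ≠ 1) (ht2 : t * t = 1) :
    Nat.card {x : ↥(Cfsg.SU 3 F q) // x ≠ 1 ∧ x * x = 1} *
        Nat.card ↥(Subgroup.centralizer ({t} : Set ↥(Cfsg.SU 3 F q))) =
      Nat.card ↥(Cfsg.SU 3 F q) := by
  have hs : ∀ x : {x : ↥(Cfsg.SU 3 F q) // x ≠ 1 ∧ x * x = 1}, ∃ g, g * t * g⁻¹ = x.1 :=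
    fun x => S.isConj_of_involutions ht ht2 x.2.1 x.2.2
  choose s hs using hs
  rw [← Nat.card_prod]
  refine Nat.card_congr (Equiv.ofBijective (fun p => s p.1 * p.2.1) ⟨?_, ?_⟩)
  · rintro ⟨x, c⟩ ⟨y, d⟩ e
    change s x * c.1 = s y * d.1 at e
    have hxy : x = y := by
      apply Subtype.ext
      have key : ∀ (z : {x : ↥(Cfsg.SU 3 F q) // x ≠ 1 ∧ x * x = 1})
          (k : ↥(Subgroup.centralizer ({t} : Set ↥(Cfsg.SU 3 F q)))),
          (s z * k.1) * t * (s z * k.1)⁻¹ = z.1 := by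
        intro z k
        have hk : t * k.1 = k.1 * t := Subgroup.mem_centralizer_iff.1 k.2 t rfl
        conv_rhs => rw [← hs z]
        calc s z * k.1 * t * (s z * k.1)⁻¹ = s z * (k.1 * t) * k.1⁻¹ * (s z)⁻¹ := by group
          _ = s z * (t * k.1) * k.1⁻¹ * (s z)⁻¹ := by rw [hk]
          _ = s z * t * (s z)⁻¹ := by group
      rw [← key x c, ← key y d, e]
    subst hxy
    exact Prod.ext rfl (Subtype.ext (mul_left_cancel e))
  · intro g
    let x : {x : ↥(Cfsg.SU 3 F q) // x ≠ 1 ∧ x * x = 1} := ⟨g * t * g⁻¹, fun h' => ht (by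
        have := congrArg (fun z => g⁻¹ * z * g) h'
        simpa [mul_assoc] using this), by
      calc g * t * g⁻¹ * (g * t * g⁻¹) = g * (t * t) * g⁻¹ := by group
        _ = 1 := by rw [ht2]; group⟩
    refine ⟨(x, ⟨(s x)⁻¹ * g, Subgroup.mem_centralizer_iff.2 ?_⟩), ?_⟩
    · intro a ha
      rw [Set.mem_singleton_iff.1 ha]
      have e : s x * t * (s x)⁻¹ = g * t * g⁻¹ := hs x
      calc t * ((s x)⁻¹ * g) = (s x)⁻¹ * (s x * t * (s x)⁻¹) * g := by group
        _ = (s x)⁻¹ * (g * t * g⁻¹) * g := by rw [e]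
        _ = (s x)⁻¹ * g * t := by group
    · show s x * ((s x)⁻¹ * g) = g
      group

theorem card_scalar : Nat.card {c : F // c * S.τ c = 1} = q + 1 := by
  rw [Nat.card_congr (Equiv.subtypeEquivRight fun c => by rw [S.norm_eq])]
  exact CfsgLib.Forms.card_norm_fiber S.card 1 one_ne_zero (one_pow q)

theorem card_par {v : Fin 3 → F} (hv : S.h v v = 1) :
    Nat.card {w // S.h w w = 1 ∧ Par v w} = q + 1 := by
  rw [← S.card_scalar]
  refine Nat.card_congr
    { toFun := fun w => ⟨S.h w.1 v, ?_⟩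
      invFun := fun c => ⟨c.1 • v, ?_, c.1, rfl⟩
      left_inv := ?_
      right_inv := fun c => Subtype.ext (by
        show S.h (c.1 • v) v = c.1
        rw [S.h_smul_left, hv, mul_one]) }
  · obtain ⟨c, hc⟩ := w.2.2
    have h1 := w.2.1
    rw [hc, S.h_smul_left, S.h_smul_right, hv, mul_one] at h1
    rw [hc, S.h_smul_left, hv, mul_one, h1]
  · rw [S.h_smul_left, S.h_smul_right, hv, mul_one, c.2]
  · rintro ⟨w, hw, c, hc⟩
    apply Subtype.ext
    show S.h w v • v = w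
    rw [hc, S.h_smul_left, hv, mul_one]

/-- Passing from involutions to vectors of norm one. -/
theorem card_invol_mul (Q : ↥(Cfsg.SU 3 F q) → Prop) (R : (Fin 3 → F) → Prop)
    (hQR : ∀ w, S.h w w = 1 → (Q (S.rS w) ↔ R w)) :
    (q + 1) * Nat.card {x : ↥(Cfsg.SU 3 F q) // x ≠ 1 ∧ x * x = 1 ∧ Q x} =
      Nat.card {w // S.h w w = 1 ∧ R w} := by
  let f : {w // S.h w w = 1 ∧ R w} →
      {x : ↥(Cfsg.SU 3 F q) // x ≠ 1 ∧ x * x = 1 ∧ Q x} := fun w =>
    ⟨S.rS w.1, S.rS_ne_one w.2.1, S.rS_mul_self w.2.1, (hQR w.1 w.2.1).2 w.2.2⟩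
  have hfib : ∀ x, Nat.card {w // f w = x} = q + 1 := by
    rintro ⟨x, hx1, hx2, hQ⟩
    obtain ⟨v, hv, rfl⟩ := S.exists_eq_rS hx1 hx2
    rw [← S.card_par hv]
    refine Nat.card_congr
      { toFun := fun w => ⟨w.1.1, w.1.2.1,
          (S.rS_eq_iff hv w.1.2.1).1 (congrArg Subtype.val w.2).symm⟩
        invFun := fun w => ⟨⟨w.1, w.2.1, ?_⟩, ?_⟩
        left_inv := fun w => rfl
        right_inv := fun w => rfl }
    · rw [← hQR _ w.2.1, ← (S.rS_eq_iff hv w.2.1).2 w.2.2]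
      exact hQ
    · exact Subtype.ext ((S.rS_eq_iff hv w.2.1).2 w.2.2).symm
  haveI := Fintype.ofFinite {x : ↥(Cfsg.SU 3 F q) // x ≠ 1 ∧ x * x = 1 ∧ Q x}
  rw [← Nat.card_congr (Equiv.sigmaFiberEquiv f), Nat.card_sigma,
    Finset.sum_congr rfl fun x _ => hfib x, Finset.sum_const, Finset.card_univ, smul_eq_mul,
    Nat.card_eq_fintype_card, mul_comm]

/-- Transfer of counts to the first basis vector. -/
theorem card_transfer {v : Fin 3 → F} (hv : S.h v v = 1) (R : F → F → Prop) :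
    Nat.card {w // S.h w w = 1 ∧ R (S.h w v) (S.h v w)} =
      Nat.card {w : Fin 3 → F // S.h w w = 1 ∧ R (w 0) (S.τ (w 0))} := by
  obtain ⟨g, hg⟩ := S.exists_act_eq hv
  let e : (Fin 3 → F) ≃ (Fin 3 → F) :=
    ⟨S.act g⁻¹, S.act g, S.act_inv g, S.inv_act g⟩
  refine Nat.card_congr (e.subtypeEquiv fun w => ?_)
  show _ ↔ S.h (S.act g⁻¹ w) (S.act g⁻¹ w) = 1 ∧
    R (S.act g⁻¹ w 0) (S.τ (S.act g⁻¹ w 0))
  have k : S.act g⁻¹ w 0 = S.h w v := by
    rw [← S.h_single_right (S.act g⁻¹ w) 0, ← S.h_act g, S.act_inv, hg]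
  rw [S.h_act, k, ← S.h_swap]

include S in
theorem card_sum_one (n : ℕ) :
    (Nat.card {u : Fin n → F // ∑ i, u i ^ (q + 1) = 1} : ℤ) * q =
      (q : ℤ) ^ (2 * n) + (-1) * (-(q : ℤ)) ^ n := by
  classical
  have h := CfsgLib.Forms.card_sumNorm S.card n 1 (one_pow q)
  rw [if_neg one_ne_zero, mul_zero, zero_sub] at h
  exact h

theorem card_unit_vectors :
    Nat.card {w : Fin 3 → F // S.h w w = 1} = q ^ 5 + q ^ 2 := by
  have h := S.card_sum_one 3
  have e : Nat.card {w : Fin 3 → F // S.h w w = 1} =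
      Nat.card {u : Fin 3 → F // ∑ i, u i ^ (q + 1) = 1} :=
    Nat.card_congr (Equiv.subtypeEquivRight fun w => by simp [Setup.h, S.norm_eq])
  have hq : (q : ℤ) ≠ 0 := by have := S.three_le; exact_mod_cast (show q ≠ 0 by omega)
  rw [← e] at h
  have : (Nat.card {w : Fin 3 → F // S.h w w = 1} : ℤ) = (q : ℤ) ^ 5 + (q : ℤ) ^ 2 :=
    mul_right_cancel₀ hq (by rw [h]; ring)
  exact_mod_cast this

theorem card_zero_coord :
    (Nat.card {w : Fin 3 → F // S.h w w = 1 ∧ w 0 = 0} : ℤ) = (q : ℤ) ^ 3 - q := by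
  have h := S.card_sum_one 2
  have e : Nat.card {w : Fin 3 → F // S.h w w = 1 ∧ w 0 = 0} =
      Nat.card {u : Fin 2 → F // ∑ i, u i ^ (q + 1) = 1} := by
    refine Nat.card_congr
      { toFun := fun w => ⟨![w.1 1, w.1 2], ?_⟩
        invFun := fun u => ⟨![0, u.1 0, u.1 1], ?_, by simp⟩
        left_inv := fun w => Subtype.ext (by funext i; fin_cases i <;> simp [w.2.2])
        right_inv := fun u => Subtype.ext (by funext i; fin_cases i <;> simp) }
    · have h1 := w.2.1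
      rw [S.h_self_expand, w.2.2] at h1
      simpa [Fin.sum_univ_two, ← S.norm_eq] using h1
    · have h1 := u.2
      simp [Fin.sum_univ_two, ← S.norm_eq] at h1
      rw [S.h_self_expand]
      simpa using h1
  have hq : (q : ℤ) ≠ 0 := by have := S.three_le; exact_mod_cast (show q ≠ 0 by omega)
  rw [← e] at h
  exact mul_right_cancel₀ hq (by rw [h]; ring)

theorem card_one_coord :
    (Nat.card {w : Fin 3 → F // S.h w w = 1 ∧ w 0 * S.τ (w 0) = 1} : ℤ) =
      ((q : ℤ) + 1) * ((q : ℤ) ^ 3 + (q : ℤ) ^ 2 - q) := by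
  classical
  have h := CfsgLib.Forms.card_sumNorm S.card 2 0 (zero_pow (by have := S.three_le; omega))
  rw [if_pos rfl, mul_one] at h
  have e : Nat.card {w : Fin 3 → F // S.h w w = 1 ∧ w 0 * S.τ (w 0) = 1} =
      Nat.card ({c : F // c * S.τ c = 1} × {u : Fin 2 → F // ∑ i, u i ^ (q + 1) = 0}) := by
    refine Nat.card_congr
      { toFun := fun w => (⟨w.1 0, w.2.2⟩, ⟨![w.1 1, w.1 2], ?_⟩)
        invFun := fun p => ⟨![p.1.1, p.2.1 0, p.2.1 1], ?_, by simpa using p.1.2⟩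
        left_inv := fun w => Subtype.ext (by funext i; fin_cases i <;> simp)
        right_inv := fun p => Prod.ext (Subtype.ext (by simp))
          (Subtype.ext (by funext i; fin_cases i <;> simp)) }
    · have h1 := w.2.1
      rw [S.h_self_expand, w.2.2] at h1
      simp [Fin.sum_univ_two, ← S.norm_eq]
      linear_combination h1
    · have h1 := p.2.2
      have h2 := p.1.2
      simp [Fin.sum_univ_two, ← S.norm_eq] at h1
      rw [S.h_self_expand]
      simp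
      linear_combination h1 + h2
  rw [e, Nat.card_prod, S.card_scalar]
  have hq : (q : ℤ) ≠ 0 := by have := S.three_le; exact_mod_cast (show q ≠ 0 by omega)
  apply mul_right_cancel₀ hq
  push_cast
  rw [mul_assoc, h]
  ring

theorem card_orth {v : Fin 3 → F} (hv : S.h v v = 1) :
    (Nat.card {w // S.h w w = 1 ∧ S.h w v = 0} : ℤ) = (q : ℤ) ^ 3 - q := by
  rw [S.card_transfer hv (fun a _ => a = 0)]
  exact S.card_zero_coord

theorem card_one {v : Fin 3 → F} (hv : S.h v v = 1) :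
    (Nat.card {w // S.h w w = 1 ∧ S.h w v * S.h v w = 1} : ℤ) =
      ((q : ℤ) + 1) * ((q : ℤ) ^ 3 + (q : ℤ) ^ 2 - q) := by
  rw [S.card_transfer hv (fun a b => a * b = 1)]
  exact S.card_one_coord

theorem one_of_par {v w : Fin 3 → F} (hv : S.h v v = 1) (hw : S.h w w = 1) (hp : Par v w) :
    S.h w v * S.h v w = 1 := by
  obtain ⟨c, rfl⟩ := hp
  rw [S.h_smul_left, S.h_smul_right, hv, mul_one, mul_one]
  rw [S.h_smul_left, S.h_smul_right, hv, mul_one] at hw
  exact hw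

theorem card_far {v : Fin 3 → F} (hv : S.h v v = 1) :
    (Nat.card {w // S.h w w = 1 ∧ S.h w v * S.h v w = 1 ∧ ¬ Par v w} : ℤ) =
      ((q : ℤ) + 1) * ((q : ℤ) ^ 3 + (q : ℤ) ^ 2 - q - 1) := by
  have h1 := card_split (fun w => S.h w w = 1 ∧ S.h w v * S.h v w = 1) (Par v)
  have e1 : Nat.card {w // (S.h w w = 1 ∧ S.h w v * S.h v w = 1) ∧ Par v w} = q + 1 := by
    rw [← S.card_par hv]
    exact Nat.card_congr (Equiv.subtypeEquivRight fun w =>
      ⟨fun h' => ⟨h'.1.1, h'.2⟩, fun h' => ⟨⟨h'.1, S.one_of_par hv h'.1 h'.2⟩, h'.2⟩⟩)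
  rw [e1, Nat.card_congr (Equiv.subtypeEquivRight fun w => and_assoc
    (a := S.h w w = 1) (b := S.h w v * S.h v w = 1) (c := ¬ Par v w))] at h1
  have h2 := S.card_one hv
  rw [h1] at h2
  push_cast at h2
  linear_combination h2

theorem card_middle {v : Fin 3 → F} (hv : S.h v v = 1) :
    (Nat.card {w // S.h w w = 1 ∧ S.h w v ≠ 0 ∧ S.h w v * S.h v w ≠ 1} : ℤ) =
      (q : ℤ) ^ 5 + (q : ℤ) ^ 2 - ((q : ℤ) ^ 3 - q)
        - ((q : ℤ) + 1) * ((q : ℤ) ^ 3 + (q : ℤ) ^ 2 - q) := by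
  have h1 := card_split (fun w => S.h w w = 1) (fun w => S.h w v = 0)
  have h2 := card_split (fun w => S.h w w = 1 ∧ ¬ S.h w v = 0)
    (fun w => S.h w v * S.h v w = 1)
  rw [Nat.card_congr (Equiv.subtypeEquivRight fun w => and_assoc
    (a := S.h w w = 1) (b := ¬ S.h w v = 0) (c := ¬ S.h w v * S.h v w = 1))] at h2
  have e1 : Nat.card {w // (S.h w w = 1 ∧ ¬ S.h w v = 0) ∧ S.h w v * S.h v w = 1} =
      Nat.card {w // S.h w w = 1 ∧ S.h w v * S.h v w = 1} :=
    Nat.card_congr (Equiv.subtypeEquivRight fun w =>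
      ⟨fun h' => ⟨h'.1.1, h'.2⟩,
        fun h' => ⟨⟨h'.1, fun h0 => by simp [h0] at h'⟩, h'.2⟩⟩)
  rw [h2, e1, S.card_unit_vectors] at h1
  have h3 := S.card_orth hv
  have h4 := S.card_one hv
  have h5 := congrArg (Nat.cast (R := ℤ)) h1
  push_cast at h5
  simp only [ne_eq] at *
  linear_combination h5.symm - h3 - h4

/-! ### Common neighbours -/

theorem expand_of_frame {g : ↥(Cfsg.SU 3 F q)} {w : Fin 3 → F} (i : Fin 3) :
    S.act g⁻¹ w i = S.h w (S.act g (Pi.single i 1)) := by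
  rw [← S.h_single_right (S.act g⁻¹ w) i, ← S.h_act g, S.act_inv]

/-- A vector orthogonal to two orthonormal vectors. -/
theorem par_cr {v w u : Fin 3 → F} (hv : S.h v v = 1) (hw : S.h w w = 1) (hvw : S.h v w = 0)
    (huv : S.h u v = 0) (huw : S.h u w = 0) : Par (S.cr v w) u := by
  obtain ⟨g, g0, g1, g2⟩ := S.exists_frame hv hw hvw
  refine ⟨S.act g⁻¹ u 2, ?_⟩
  conv_lhs => rw [← S.act_inv g u]
  rw [← g2, ← S.act_smul]
  congr 1
  funext i
  fin_cases i
  · rw [show S.act g⁻¹ u ((fun i => i) ⟨0, by omega⟩) = 0 from by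
      show S.act g⁻¹ u 0 = 0
      rw [S.expand_of_frame, g0, huv]]
    simp
  · rw [show S.act g⁻¹ u ((fun i => i) ⟨1, by omega⟩) = 0 from by
      show S.act g⁻¹ u 1 = 0
      rw [S.expand_of_frame, g1, huw]]
    simp
  · simp

theorem ne_one_of_orth {v w u : Fin 3 → F} (hv : S.h v v = 1) (hw : S.h w w = 1)
    (hu : S.h u u = 1) (huv : S.h u v = 0) (huw : S.h u w = 0) (hnp : ¬ Par v w) :
    S.h w v * S.h v w ≠ 1 := by
  intro h1
  obtain ⟨g, g0, g1, -⟩ := S.exists_frame hv hu (S.h_swap_zero huv)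
  have a0 : S.act g⁻¹ w 0 = S.h w v := by rw [S.expand_of_frame, g0]
  have a1 : S.act g⁻¹ w 1 = 0 := by rw [S.expand_of_frame, g1, S.h_swap_zero huw]
  have h2 : S.h (S.act g⁻¹ w) (S.act g⁻¹ w) = 1 := by rw [S.h_act, hw]
  rw [S.h_self_expand, a0, a1, ← S.h_swap, h1] at h2
  have a2 : S.act g⁻¹ w 2 = 0 := S.norm_eq_zero (by linear_combination h2)
  apply hnp
  refine ⟨S.h w v, ?_⟩
  conv_lhs => rw [← S.act_inv g w]
  rw [← g0, ← S.act_smul, g0]
  congr 1
  funext i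
  fin_cases i
  · simpa using a0
  · simpa using a1
  · simpa using a2

theorem exists_common_orth {v w : Fin 3 → F} (hv : S.h v v = 1) (hw : S.h w w = 1)
    (hne : S.h w v * S.h v w ≠ 1) :
    ∃ u, S.h u u = 1 ∧ S.h u v = 0 ∧ S.h u w = 0 := by
  have h0 : S.h (S.cr v w) (S.cr v w) ≠ 0 := by
    rw [S.h_cr_cr, hv, hw, one_mul, sub_ne_zero, mul_comm]
    exact Ne.symm hne
  obtain ⟨c, -, hc⟩ := S.exists_normalise h0
  refine ⟨_, hc, ?_, ?_⟩
  · rw [S.h_smul_left, S.h_swap_zero (S.h_cr_left v w), mul_zero]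
  · rw [S.h_smul_left, S.h_swap_zero (S.h_cr_right v w), mul_zero]

theorem exists_common_iff {v w : Fin 3 → F} (hv : S.h v v = 1) (hw : S.h w w = 1)
    (hnc : ¬ Commute (S.rS v) (S.rS w)) :
    (∃ y : ↥(Cfsg.SU 3 F q), y ≠ 1 ∧ y * y = 1 ∧ Commute (S.rS v) y ∧ Commute y (S.rS w)) ↔
      S.h w v * S.h v w ≠ 1 := by
  constructor
  · rintro ⟨y, hy1, hy2, c1, c2⟩
    obtain ⟨u, hu, rfl⟩ := S.exists_eq_rS hy1 hy2
    rcases (S.commute_rS_iff hv hu).1 c1 with huv | hp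
    · rcases (S.commute_rS_iff hu hw).1 c2 with hwu | hp'
      · exact S.ne_one_of_orth hv hw hu huv (S.h_swap_zero hwu)
          fun hp => hnc ((S.commute_rS_iff hv hw).2 (Or.inr hp))
      · rw [(S.rS_eq_iff hu hw).2 hp'] at c1
        exact absurd c1 hnc
    · rw [← (S.rS_eq_iff hv hu).2 hp] at c2
      exact absurd c2 hnc
  · intro hne
    obtain ⟨u, hu, huv, huw⟩ := S.exists_common_orth hv hw hne
    exact ⟨S.rS u, S.rS_ne_one hu, S.rS_mul_self hu, (S.commute_rS_iff hv hu).2 (Or.inl huv),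
      (S.commute_rS_iff hu hw).2 (Or.inl (S.h_swap_zero huw))⟩

theorem exists_step {v w : Fin 3 → F} (hv : S.h v v = 1) :
    ∃ u, S.h u u = 1 ∧ S.h u v = 0 ∧ S.h w u * S.h u w ≠ 1 := by
  obtain ⟨g, hg⟩ := S.exists_act_eq hv
  set a := S.act g⁻¹ w with ha
  suffices h : ∃ b : Fin 3 → F, S.h b b = 1 ∧ b 0 = 0 ∧ S.h a b * S.h b a ≠ 1 by
    obtain ⟨b, hb, hb0, hne⟩ := h
    refine ⟨S.act g b, by rw [S.h_act, hb], ?_, ?_⟩
    · rw [← hg, S.h_act, S.h_single_right, hb0]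
    · rwa [← S.act_inv g w, S.h_act, S.h_act, ← ha]
  by_cases hs : a 1 * S.τ (a 1) + a 2 * S.τ (a 2) = 0
  · by_cases h1 : a 1 * S.τ (a 1) = 1
    · refine ⟨Pi.single 2 1, S.h_single_self 2, by simp, ?_⟩
      rw [S.h_swap a (Pi.single 2 1), S.h_single_right]
      intro h2
      exact S.two_ne (by rw [h1, h2] at hs; linear_combination hs)
    · refine ⟨Pi.single 1 1, S.h_single_self 1, by simp, ?_⟩
      rw [S.h_swap a (Pi.single 1 1), S.h_single_right]
      exact h1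
  · set b : Fin 3 → F := ![0, -S.τ (a 2), S.τ (a 1)] with hb
    have hbb : S.h b b ≠ 0 := by
      rw [S.h_self_expand, hb]
      simp [S.hττ]
      intro h'
      exact hs (by linear_combination h')
    obtain ⟨c, -, hc⟩ := S.exists_normalise hbb
    refine ⟨c • b, hc, by simp [hb], ?_⟩
    have : S.h a b = 0 := by
      simp [Setup.h, hb, Fin.sum_univ_three, S.hττ]
      ring
    rw [S.h_smul_right, this, mul_zero, zero_mul]
    exact zero_ne_one

include S in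
theorem exists_path {t x : ↥(Cfsg.SU 3 F q)} (ht : t ≠ 1) (ht2 : t * t = 1) (hx : x ≠ 1)
    (hx2 : x * x = 1) :
    ∃ y z : ↥(Cfsg.SU 3 F q), y ≠ 1 ∧ y * y = 1 ∧ z ≠ 1 ∧ z * z = 1 ∧
      Commute t y ∧ Commute y z ∧ Commute z x := by
  obtain ⟨v, hv, rfl⟩ := S.exists_eq_rS ht ht2
  obtain ⟨w, hw, rfl⟩ := S.exists_eq_rS hx hx2
  obtain ⟨u, hu, huv, hne⟩ := S.exists_step (w := w) hv
  obtain ⟨z, hz, hzu, hzw⟩ := S.exists_common_orth hu hw hne
  exact ⟨S.rS u, S.rS z, S.rS_ne_one hu, S.rS_mul_self hu, S.rS_ne_one hz, S.rS_mul_self hz,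
    (S.commute_rS_iff hv hu).2 (Or.inl huv), (S.commute_rS_iff hu hz).2 (Or.inl hzu),
    (S.commute_rS_iff hz hw).2 (Or.inl (S.h_swap_zero hzw))⟩

end Setup

end CfsgLib.UThreeInvol
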