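import Cfsg.Prelude.Def_Classical
import Cfsg.Agent.Forms.HermitianCount
import Cfsg.Agent.Forms4.UnitaryCenter

/-!
# Involutions of `SU₃(q)`, `q` odd

Every involution is the reflection `x ↦ -x + 2 h(x,v) v` at a vector `v` of norm one.
-/

set_option autoImplicit false

namespace CfsgLib.UThreeInvol

open Matrix

/-- A field with `q²` elements, `q` odd, with its conjugation. -/
structure Setup (F : Type*) [Field F] [Fintype F] (q : ℕ) where
  τ : F →+* F
  hτ : ∀ x, τ x = x ^ q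
  hττ : ∀ x, τ (τ x) = x
  odd : Odd q
  card : Fintype.card F = q ^ 2

variable {F : Type*} [Field F] [Fintype F] {q : ℕ}

theorem exists_setup (hq : Odd q) (hF : Fintype.card F = q ^ 2) : Nonempty (Setup F q) := by
  obtain ⟨τ, h1, h2⟩ := CfsgLib.FieldEmb.exists_conj hF
  exact ⟨⟨τ, h1, h2, hq, hF⟩⟩

namespace Setup

variable (S : Setup F q)

include S in
theorem three_le : 3 ≤ q := by
  have h2 := CfsgLib.Forms.two_le_q S.card
  obtain ⟨k, hk⟩ := S.odd
  omega

include S in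
theorem two_ne : (2 : F) ≠ 0 := by
  intro h
  haveI : CharP F 2 := CharTwo.of_one_ne_zero_of_two_eq_zero one_ne_zero h
  have h2 : Fintype.card F % 2 = 0 := FiniteField.even_card_of_char_two (ringChar.eq F 2)
  rw [S.card] at h2
  have h3 : Odd (q ^ 2) := S.odd.pow
  rw [Nat.odd_iff] at h3
  omega

theorem norm_eq (x : F) : x * S.τ x = x ^ (q + 1) := by rw [S.hτ, pow_succ']

theorem norm_eq_zero {x : F} (h : x * S.τ x = 0) : x = 0 := by
  rcases mul_eq_zero.1 h with h | h
  · exact h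
  · exact S.τ.injective (by rw [h, map_zero])

/-- Every non-zero fixed element is a norm. -/
theorem exists_norm {μ : F} (hμ : μ ≠ 0) (hfix : S.τ μ = μ) : ∃ c, c * S.τ c = μ := by
  have h := CfsgLib.Forms.card_norm_fiber S.card μ hμ (by rw [← S.hτ, hfix])
  have hne : Nonempty {x : F // x ^ (q + 1) = μ} := (Nat.card_pos_iff.1 (by omega)).1
  obtain ⟨c, hc⟩ := hne
  exact ⟨c, by rw [S.norm_eq, hc]⟩

/-- The Hermitian form. -/
def h (u v : Fin 3 → F) : F := ∑ i, u i * S.τ (v i)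

theorem h_eq (u v : Fin 3 → F) : Cfsg.hermForm 3 F q u v = S.h u v := by
  simp [Cfsg.hermForm, h, S.hτ]

theorem h_swap (u v : Fin 3 → F) : S.h v u = S.τ (S.h u v) := by
  simp [h, Fin.sum_univ_three, S.hττ, mul_comm]

theorem h_swap_zero {u v : Fin 3 → F} (hz : S.h u v = 0) : S.h v u = 0 := by
  rw [S.h_swap, hz, map_zero]

theorem h_self_fix (u : Fin 3 → F) : S.τ (S.h u u) = S.h u u := (S.h_swap u u).symm

theorem h_comb (a b c d : F) (x v y w : Fin 3 → F) :
    S.h (a • x + b • v) (c • y + d • w) =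
      a * S.τ c * S.h x y + a * S.τ d * S.h x w + b * S.τ c * S.h v y + b * S.τ d * S.h v w := by
  simp [h, Fin.sum_univ_three]
  ring

theorem h_smul_left (a : F) (x y : Fin 3 → F) : S.h (a • x) y = a * S.h x y := by
  simp [h, Fin.sum_univ_three]; ring

theorem h_smul_right (a : F) (x y : Fin 3 → F) : S.h x (a • y) = S.τ a * S.h x y := by
  simp [h, Fin.sum_univ_three]; ring

theorem h_add_left (x y z : Fin 3 → F) : S.h (x + y) z = S.h x z + S.h y z := by
  simp [h, Fin.sum_univ_three]; ring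

theorem h_single_right (x : Fin 3 → F) (i : Fin 3) : S.h x (Pi.single i 1) = x i := by
  fin_cases i <;> simp [h, Fin.sum_univ_three, Pi.single_apply]

theorem h_single_self (i : Fin 3) :
    S.h (Pi.single i (1 : F)) (Pi.single i 1) = 1 := by
  rw [S.h_single_right]; simp

theorem h_self_expand (x : Fin 3 → F) :
    S.h x x = x 0 * S.τ (x 0) + x 1 * S.τ (x 1) + x 2 * S.τ (x 2) := by
  simp [h, Fin.sum_univ_three]

/-- The conjugated cross product. -/
def cr (u v : Fin 3 → F) : Fin 3 → F :=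
  ![S.τ (u 1 * v 2 - u 2 * v 1), S.τ (u 2 * v 0 - u 0 * v 2), S.τ (u 0 * v 1 - u 1 * v 0)]

theorem h_cr_left (u v : Fin 3 → F) : S.h u (S.cr u v) = 0 := by
  simp [h, cr, Fin.sum_univ_three, S.hττ]; ring

theorem h_cr_right (u v : Fin 3 → F) : S.h v (S.cr u v) = 0 := by
  simp [h, cr, Fin.sum_univ_three, S.hττ]; ring

theorem h_cr_cr (u v : Fin 3 → F) :
    S.h (S.cr u v) (S.cr u v) = S.h u u * S.h v v - S.h u v * S.h v u := by
  simp [h, cr, Fin.sum_univ_three, S.hττ]; ring

theorem exists_normalise {x : Fin 3 → F} (hx : S.h x x ≠ 0) :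
    ∃ c : F, c ≠ 0 ∧ S.h (c • x) (c • x) = 1 := by
  obtain ⟨c, hc⟩ := S.exists_norm (inv_ne_zero hx) (by rw [map_inv₀, S.h_self_fix])
  refine ⟨c, fun h0 => ?_, ?_⟩
  · rw [h0, zero_mul] at hc; exact inv_ne_zero hx hc.symm
  · rw [S.h_smul_left, S.h_smul_right, ← mul_assoc, hc, inv_mul_cancel₀ hx]

theorem exists_orth {v : Fin 3 → F} (hv : S.h v v = 1) :
    ∃ w, S.h w w = 1 ∧ S.h v w = 0 := by
  obtain ⟨i, hi⟩ : ∃ i, v i * S.τ (v i) ≠ 1 := by
    by_contra hcon
    push Not at hcon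
    rw [S.h_self_expand, hcon, hcon, hcon] at hv
    exact S.two_ne (by linear_combination hv)
  have hne : S.h (S.cr v (Pi.single i 1)) (S.cr v (Pi.single i 1)) ≠ 0 := by
    rw [S.h_cr_cr, S.h_single_self, S.h_swap v (Pi.single i 1), S.h_single_right, hv, one_mul,
      sub_ne_zero]
    exact fun h' => hi h'.symm
  obtain ⟨c, -, hc⟩ := S.exists_normalise hne
  exact ⟨c • S.cr v (Pi.single i 1), hc, by rw [S.h_smul_right, S.h_cr_left, mul_zero]⟩

/-- A vector proportional to `v`. -/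
def Par (v w : Fin 3 → F) : Prop := ∃ c : F, w = c • v

/-! ### Action -/

/-- The action of an element of `SU₃` on column vectors. -/
def act (_S : Setup F q) (g : ↥(Cfsg.SU 3 F q)) (x : Fin 3 → F) : Fin 3 → F := g.1.1 *ᵥ x

theorem act_mul (g k : ↥(Cfsg.SU 3 F q)) (x : Fin 3 → F) :
    S.act (g * k) x = S.act g (S.act k x) := by
  simp only [act, mulVec_mulVec]; rfl

theorem act_one (x : Fin 3 → F) : S.act 1 x = x := by
  simp only [act]
  exact one_mulVec x

theorem act_inv (g : ↥(Cfsg.SU 3 F q)) (x : Fin 3 → F) : S.act g (S.act g⁻¹ x) = x := by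
  rw [← S.act_mul, mul_inv_cancel, S.act_one]

theorem inv_act (g : ↥(Cfsg.SU 3 F q)) (x : Fin 3 → F) : S.act g⁻¹ (S.act g x) = x := by
  rw [← S.act_mul, inv_mul_cancel, S.act_one]

theorem act_smul (g : ↥(Cfsg.SU 3 F q)) (c : F) (x : Fin 3 → F) :
    S.act g (c • x) = c • S.act g x := mulVec_smul _ _ _

theorem act_add (g : ↥(Cfsg.SU 3 F q)) (x y : Fin 3 → F) :
    S.act g (x + y) = S.act g x + S.act g y := mulVec_add _ _ _

theorem h_act (g : ↥(Cfsg.SU 3 F q)) (x y : Fin 3 → F) :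
    S.h (S.act g x) (S.act g y) = S.h x y := by
  rw [← S.h_eq, ← S.h_eq]
  exact CfsgLib.Forms4.mem_SU_iff.1 g.2 x y

theorem ext_act {g k : ↥(Cfsg.SU 3 F q)} (e : ∀ x, S.act g x = S.act k x) : g = k := by
  apply Subtype.ext
  apply Subtype.ext
  ext i j
  have := congrFun (e (Pi.single j 1)) i
  simpa [act] using this

/-! ### Reflections -/

/-- The matrix of the reflection at `v`. -/
def reflMat (v : Fin 3 → F) : Matrix (Fin 3) (Fin 3) F :=
  Matrix.of fun i j => 2 * v i * S.τ (v j) - if i = j then 1 else 0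

theorem reflMat_mulVec (v x : Fin 3 → F) :
    S.reflMat v *ᵥ x = (-1 : F) • x + (2 * S.h x v) • v := by
  funext i
  fin_cases i <;> simp [reflMat, mulVec, dotProduct, h, Fin.sum_univ_three] <;> ring

theorem det_reflMat {v : Fin 3 → F} (hv : S.h v v = 1) : (S.reflMat v).det = 1 := by
  rw [S.h_self_expand] at hv
  simp [reflMat, det_fin_three]
  linear_combination 2 * hv

theorem reflMat_mem {v : Fin 3 → F} (hv : S.h v v = 1) :
    (⟨S.reflMat v, S.det_reflMat hv⟩ : Matrix.SpecialLinearGroup (Fin 3) F) ∈ Cfsg.SU 3 F q := by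
  refine CfsgLib.Forms4.mem_SU_iff.2 ?_
  intro x y
  rw [S.h_eq, S.h_eq]
  simp only [S.reflMat_mulVec, S.h_comb, hv, map_neg, map_one, map_mul, map_ofNat, ← S.h_swap]
  ring

open Classical in
/-- The reflection at `v` (the identity unless `h v v = 1`). -/
noncomputable def rS (v : Fin 3 → F) : ↥(Cfsg.SU 3 F q) :=
  if hv : S.h v v = 1 then ⟨_, S.reflMat_mem hv⟩ else 1

theorem rS_val {v : Fin 3 → F} (hv : S.h v v = 1) : (S.rS v).1.1 = S.reflMat v := by
  rw [rS, dif_pos hv]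

theorem act_rS {v : Fin 3 → F} (hv : S.h v v = 1) (x : Fin 3 → F) :
    S.act (S.rS v) x = (-1 : F) • x + (2 * S.h x v) • v := by
  rw [act, S.rS_val hv, S.reflMat_mulVec]

theorem rS_mul_self {v : Fin 3 → F} (hv : S.h v v = 1) : S.rS v * S.rS v = 1 := by
  refine S.ext_act fun x => ?_
  rw [S.act_mul, S.act_one, S.act_rS hv, S.act_rS hv, S.h_add_left, S.h_smul_left, S.h_smul_left,
    hv]
  module

theorem rS_ne_one {v : Fin 3 → F} (hv : S.h v v = 1) : S.rS v ≠ 1 := by
  intro e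
  have h' := congrArg (fun g : ↥(Cfsg.SU 3 F q) => Matrix.trace g.1.1) e
  simp only [S.rS_val hv] at h'
  rw [S.h_self_expand] at hv
  simp [reflMat, Matrix.trace, Fin.sum_univ_three] at h'
  apply S.two_ne
  have h4 : (2 : F) * 2 = 0 := by linear_combination 2 * hv - h'
  exact mul_self_eq_zero.1 h4

theorem conj_rS (g : ↥(Cfsg.SU 3 F q)) {v : Fin 3 → F} (hv : S.h v v = 1) :
    g * S.rS v * g⁻¹ = S.rS (S.act g v) := by
  have hgv : S.h (S.act g v) (S.act g v) = 1 := by rw [S.h_act, hv]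
  rw [mul_inv_eq_iff_eq_mul]
  refine S.ext_act fun x => ?_
  rw [S.act_mul, S.act_mul, S.act_rS hv, S.act_rS hgv, S.act_add, S.act_smul, S.act_smul, S.h_act]

theorem rS_eq_iff {v w : Fin 3 → F} (hv : S.h v v = 1) (hw : S.h w w = 1) :
    S.rS v = S.rS w ↔ Par v w := by
  constructor
  · intro e
    refine ⟨S.h w v, ?_⟩
    have h1 := S.act_rS hw w
    rw [← e, S.act_rS hv, hw] at h1
    funext i
    have h2 := congrFun h1 i
    simp at h2 ⊢
    exact mul_left_cancel₀ S.two_ne (by linear_combination -h2)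
  · rintro ⟨c, rfl⟩
    have hc : c * S.τ c = 1 := by
      rwa [S.h_smul_left, S.h_smul_right, hv, mul_one] at hw
    refine S.ext_act fun x => ?_
    rw [S.act_rS hv, S.act_rS hw, S.h_smul_right, smul_smul]
    congr 2
    linear_combination -(2 * S.h x v) * hc

omit [Fintype F] in
theorem Par.refl (v : Fin 3 → F) : Par v v := ⟨1, (one_smul F v).symm⟩

theorem par_symm {v w : Fin 3 → F} (hw : S.h w w = 1) (h' : Par v w) : Par w v := by
  obtain ⟨c, rfl⟩ := h'
  have hc : c ≠ 0 := by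
    rintro rfl
    simp [h] at hw
  exact ⟨c⁻¹, by rw [smul_smul, inv_mul_cancel₀ hc, one_smul]⟩

theorem h_ne_zero_of_par {v w : Fin 3 → F} (hv : S.h v v = 1) (hw : S.h w w = 1)
    (h' : Par v w) : S.h w v ≠ 0 := by
  obtain ⟨c, rfl⟩ := h'
  rw [S.h_smul_left, hv, mul_one]
  rintro rfl
  simp [h] at hw

theorem commute_rS_iff {v w : Fin 3 → F} (hv : S.h v v = 1) (hw : S.h w w = 1) :
    Commute (S.rS v) (S.rS w) ↔ S.h w v = 0 ∨ Par v w := by
  have hgw : S.h (S.act (S.rS v) w) (S.act (S.rS v) w) = 1 := by rw [S.h_act, hw]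
  rw [Commute, SemiconjBy, ← mul_inv_eq_iff_eq_mul, S.conj_rS _ hw, S.rS_eq_iff hgw hw]
  constructor
  · intro hp
    obtain ⟨c, hc⟩ := S.par_symm hw hp
    rw [S.act_rS hv] at hc
    by_cases h0 : S.h w v = 0
    · exact Or.inl h0
    · refine Or.inr (S.par_symm hv ⟨(c + 1) / (2 * S.h w v), ?_⟩)
      funext i
      have h2 := congrFun hc i
      have hd : (2 * S.h w v) ≠ 0 := mul_ne_zero S.two_ne h0
      simp at h2 ⊢
      rw [div_mul_eq_mul_div, eq_div_iff hd]
      linear_combination h2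
  · rintro (h0 | ⟨c, rfl⟩)
    · refine ⟨-1, ?_⟩
      rw [S.act_rS hv, h0]
      simp
    · refine ⟨1, ?_⟩
      rw [S.act_rS hv, S.h_smul_left, hv, one_smul]
      module

/-! ### Frames -/

/-- The matrix with columns `v, w, cr v w`. -/
def frameMat (v w : Fin 3 → F) : Matrix (Fin 3) (Fin 3) F :=
  Matrix.of fun i j => ![v, w, S.cr v w] j i

theorem frameMat_mulVec (v w x : Fin 3 → F) :
    S.frameMat v w *ᵥ x = x 0 • v + x 1 • w + x 2 • S.cr v w := by
  funext i
  simp [frameMat, mulVec, dotProduct, Fin.sum_univ_three]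
  ring

theorem exists_frame {v w : Fin 3 → F} (hv : S.h v v = 1) (hw : S.h w w = 1)
    (hvw : S.h v w = 0) :
    ∃ g : ↥(Cfsg.SU 3 F q), S.act g (Pi.single 0 1) = v ∧ S.act g (Pi.single 1 1) = w ∧
      S.act g (Pi.single 2 1) = S.cr v w := by
  have hcc : S.h (S.cr v w) (S.cr v w) = 1 := by rw [S.h_cr_cr, hv, hw, hvw]; ring
  have hdet : (S.frameMat v w).det = 1 := by
    rw [← hcc]
    simp [frameMat, det_fin_three, h, cr, Fin.sum_univ_three, S.hττ]
    ring
  have hmem : (⟨S.frameMat v w, hdet⟩ : Matrix.SpecialLinearGroup (Fin 3) F) ∈ Cfsg.SU 3 F q := by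
    refine CfsgLib.Forms4.mem_SU_iff.2 ?_
    intro x y
    rw [S.h_eq, S.h_eq]
    have k1 := S.h_swap_zero hvw
    have k2 := S.h_cr_left v w
    have k3 := S.h_cr_right v w
    have k4 := S.h_swap_zero k2
    have k5 := S.h_swap_zero k3
    simp only [h, Fin.sum_univ_three] at hv hw hvw hcc k1 k2 k3 k4 k5
    simp only [S.frameMat_mulVec, h, Fin.sum_univ_three, Pi.add_apply, Pi.smul_apply, smul_eq_mul,
      map_add, map_mul]
    linear_combination (x 0 * S.τ (y 0)) * hv + (x 1 * S.τ (y 1)) * hw + (x 2 * S.τ (y 2)) * hcc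
      + (x 0 * S.τ (y 1)) * hvw + (x 1 * S.τ (y 0)) * k1 + (x 0 * S.τ (y 2)) * k2
      + (x 2 * S.τ (y 0)) * k4 + (x 1 * S.τ (y 2)) * k3 + (x 2 * S.τ (y 1)) * k5
  refine ⟨⟨_, hmem⟩, ?_, ?_, ?_⟩ <;>
    · rw [act]
      show S.frameMat v w *ᵥ _ = _
      rw [S.frameMat_mulVec]
      simp

theorem exists_act_eq {v : Fin 3 → F} (hv : S.h v v = 1) :
    ∃ g : ↥(Cfsg.SU 3 F q), S.act g (Pi.single 0 1) = v := by
  obtain ⟨w, hw, hvw⟩ := S.exists_orth hv
  obtain ⟨g, hg, -⟩ := S.exists_frame hv hw hvw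
  exact ⟨g, hg⟩

/-- Transitivity on vectors of norm one. -/
theorem exists_act_eq' {v w : Fin 3 → F} (hv : S.h v v = 1) (hw : S.h w w = 1) :
    ∃ g : ↥(Cfsg.SU 3 F q), S.act g v = w := by
  obtain ⟨a, ha⟩ := S.exists_act_eq hv
  obtain ⟨b, hb⟩ := S.exists_act_eq hw
  exact ⟨b * a⁻¹, by rw [S.act_mul, ← ha, S.inv_act, hb]⟩

/-! ### All involutions are reflections -/

theorem exists_fixed_norm_one {t : ↥(Cfsg.SU 3 F q)} (ht2 : t * t = 1) :
    ∃ v, S.h v v = 1 ∧ S.act t v = v := by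
  have hTT : ∀ x, S.act t (S.act t x) = x := fun x => by rw [← S.act_mul, ht2, S.act_one]
  by_contra hcon
  push Not at hcon
  have hiso : ∀ a, S.act t a = a → S.h a a = 0 := by
    intro a ha
    by_contra h0
    obtain ⟨c, -, hc⟩ := S.exists_normalise h0
    exact hcon _ hc (by rw [S.act_smul, ha])
  have hpol : ∀ a b, S.act t a = a → S.act t b = b → S.h a b = 0 := by
    intro a b ha hb
    by_contra h0
    have h1 : S.h b a ≠ 0 := fun h' => h0 (S.h_swap_zero h')
    have h2 := hiso ((1 : F) • a + (S.h b a)⁻¹ • b)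
      (by rw [S.act_add, S.act_smul, S.act_smul, ha, hb])
    rw [S.h_comb, hiso a ha, hiso b hb, map_inv₀, ← S.h_swap, map_one] at h2
    apply S.two_ne
    field_simp at h2
    have h3 : (2 : F) * (S.h a b * S.h b a) = 0 := by linear_combination h2
    exact (mul_eq_zero.1 h3).resolve_right (mul_ne_zero h0 h1)
  have hneg : ∀ x, S.act t x = (-1 : F) • x := by
    intro x
    have hz : ∀ a, S.act t a = a → a = 0 := by
      intro a ha
      funext i
      rw [← S.h_single_right a i]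
      have e1 := hpol a (Pi.single i 1 + S.act t (Pi.single i 1)) ha
        (by rw [S.act_add, hTT, add_comm])
      have e2 : S.h a (S.act t (Pi.single i 1)) = S.h a (Pi.single i 1) := by
        conv_lhs => rw [← ha]
        rw [S.h_act]
      have e3 : S.h a (Pi.single i 1 + S.act t (Pi.single i 1)) =
          S.h a (Pi.single i 1) + S.h a (S.act t (Pi.single i 1)) := by
        simp [h, Fin.sum_univ_three]; ring
      rw [e3, e2, ← two_mul] at e1
      exact (mul_eq_zero.1 e1).resolve_left S.two_ne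
    have := hz (x + S.act t x) (by rw [S.act_add, hTT, add_comm])
    rw [neg_one_smul]
    exact eq_neg_of_add_eq_zero_right this
  have hM : t.1.1 = -1 := by
    ext i j
    have := congrFun (hneg (Pi.single j 1)) i
    simp [act] at this
    rw [this]
    rcases eq_or_ne i j with rfl | hij
    · simp
    · simp [Matrix.one_apply_ne hij, Ne.symm hij]
  have hd := t.1.2
  rw [hM, Matrix.det_neg] at hd
  simp at hd
  exact S.two_ne (by linear_combination -hd)

theorem eq_rS_of_fixed_e0 {t : ↥(Cfsg.SU 3 F q)} (ht : t ≠ 1) (ht2 : t * t = 1)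
    (he : S.act t (Pi.single 0 1) = Pi.single 0 1) : t = S.rS (Pi.single 0 1) := by
  set M := t.1.1 with hM
  have hcol : ∀ i, M i 0 = (Pi.single 0 1 : Fin 3 → F) i := fun i => by
    rw [← congrFun he i]; simp [act, hM]
  have hrow : ∀ j, M 0 j = (Pi.single j 1 : Fin 3 → F) 0 := by
    intro j
    have h1 := S.h_act t (Pi.single j 1) (Pi.single 0 1)
    rw [he, S.h_single_right, S.h_single_right] at h1
    rw [← h1]; simp [act, hM]
  have c0 := hcol 0
  have c1 := hcol 1
  have c2 := hcol 2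
  have r1 := hrow 1
  have r2 := hrow 2
  simp at c0 c1 c2 r1 r2
  have hdet : M.det = 1 := t.1.2
  rw [det_fin_three, c0, c1, c2, r1, r2] at hdet
  have hsq : M * M = 1 := by
    have := congrArg (fun g : ↥(Cfsg.SU 3 F q) => g.1.1) ht2
    exact this
  have s11 := congrFun (congrFun hsq 1) 1
  have s12 := congrFun (congrFun hsq 1) 2
  have s21 := congrFun (congrFun hsq 2) 1
  simp [Matrix.mul_apply, Fin.sum_univ_three, c1, c2, r1, r2] at s11 s12 s21
  have hs : M 1 1 * (M 1 1 + M 2 2) = 2 := by linear_combination hdet + s11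
  have hne : M 1 1 + M 2 2 ≠ 0 := fun h0 => S.two_ne (by rw [← hs, h0, mul_zero])
  have hb : M 1 2 = 0 := by
    refine (mul_eq_zero.1 ?_).resolve_left hne
    linear_combination s12
  have hc : M 2 1 = 0 := by
    refine (mul_eq_zero.1 ?_).resolve_left hne
    linear_combination s21
  rw [hb, zero_mul, add_zero] at s11
  have hd : M 2 2 = M 1 1 := by
    rw [hb, hc] at hdet
    linear_combination M 1 1 * hdet - M 2 2 * s11
  rcases mul_self_eq_one_iff.1 s11 with ha | ha
  · refine absurd (Subtype.ext (Subtype.ext ?_)) ht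
    show M = 1
    ext i j
    fin_cases i <;> fin_cases j <;> simp [c0, c1, c2, r1, r2, hb, hc, hd, ha]
  · apply Subtype.ext
    apply Subtype.ext
    rw [S.rS_val (S.h_single_self 0)]
    show M = _
    ext i j
    fin_cases i <;> fin_cases j <;>
      simp [reflMat, Pi.single_apply, c0, c1, c2, r1, r2, hb, hc, hd, ha] <;> ring

theorem exists_eq_rS {t : ↥(Cfsg.SU 3 F q)} (ht : t ≠ 1) (ht2 : t * t = 1) :
    ∃ v, S.h v v = 1 ∧ t = S.rS v := by
  obtain ⟨v, hv, hfix⟩ := S.exists_fixed_norm_one ht2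
  obtain ⟨g, hg⟩ := S.exists_act_eq hv
  have h1 : g⁻¹ * t * g = S.rS (Pi.single 0 1) := by
    refine S.eq_rS_of_fixed_e0 ?_ ?_ ?_
    · intro e
      apply ht
      calc t = g * (g⁻¹ * t * g) * g⁻¹ := by group
        _ = 1 := by rw [e]; group
    · calc g⁻¹ * t * g * (g⁻¹ * t * g) = g⁻¹ * (t * t) * g := by group
        _ = 1 := by rw [ht2]; group
    · rw [S.act_mul, S.act_mul, hg, hfix, ← hg, S.inv_act]
  refine ⟨v, hv, ?_⟩
  rw [← hg, ← S.conj_rS g (S.h_single_self 0), ← h1]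
  group

include S in
theorem isConj_of_involutions {t x : ↥(Cfsg.SU 3 F q)} (ht : t ≠ 1) (ht2 : t * t = 1)
    (hx : x ≠ 1) (hx2 : x * x = 1) : ∃ g, g * t * g⁻¹ = x := by
  obtain ⟨v, hv, rfl⟩ := S.exists_eq_rS ht ht2
  obtain ⟨w, hw, rfl⟩ := S.exists_eq_rS hx hx2
  obtain ⟨g, hg⟩ := S.exists_act_eq' hv hw
  exact ⟨g, by rw [S.conj_rS g hv, hg]⟩

end Setup

end CfsgLib.UThreeInvol
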